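import Groth.Agent.FlatCxLib.Homology

/-!
# `T_p(A)` and consequences
-/

universe u

namespace Groth.Agent.FlatCxLib

open TensorProduct Function CategoryTheory

variable {A : Type u} [CommRing A] (P : ChainComplex (ModuleCat.{u} A) ℤ)

/-- `P ⊗ A ≅ P`. -/
noncomputable def tensorUnitIso : CohIII.tensorObj P (ModuleCat.of A A) ≅ P :=
  HomologicalComplex.Hom.isoOfComponents (fun i => (TensorProduct.rid A (P.X i)).toModuleIso)
    fun i j _ => by
      refine ModuleCat.hom_ext (TensorProduct.ext' fun x a => ?_)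
      exact map_smul (P.d i j).hom a x

/-- `T_p(A) ≅ ker / im`. -/
noncomputable def tAEquiv (q p r : ℤ) (hqp : p + 1 = q) (hpr : r + 1 = p) :
    ((CohIII.TFun P p).obj (ModuleCat.of A A)) ≃ₗ[A] homologyQuot (P.d q p).hom (P.d p r).hom :=
  ((HomologicalComplex.homologyMapIso (tensorUnitIso P) p).toLinearEquiv).trans
    (homologyQuotEquiv P q p r hqp hpr).symm

variable {P}

theorem epi_and_isZero_iff_flat (hP : ∀ i, Module.Flat A (P.X i)) (q p r : ℤ) (hqp : p + 1 = q)
    (hpr : r + 1 = p) :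
    ((CohIII.TFun P p).PreservesMonomorphisms ∧ (CohIII.TFun P p).PreservesEpimorphisms) ↔
      ((CohIII.TFun P p).PreservesEpimorphisms ∧
        Module.Flat A ((CohIII.TFun P p).obj (ModuleCat.of A A))) := by
  have := hP r
  rw [preservesMono_iff_flat q p hP hqp, preservesEpi_iff_flat p r hP hpr,
    Module.Flat.equiv_iff (tAEquiv P q p r hqp hpr), and_comm]
  refine and_congr_right fun h => flat_coker_iff_flat_homology (d_comp_d_hom P q p r)

theorem preservesMono_of_isZero (p : ℤ) (h : ∀ M, Limits.IsZero ((CohIII.TFun P p).obj M)) :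
    (CohIII.TFun P p).PreservesMonomorphisms :=
  ⟨fun {M N} _ _ => ⟨fun {_} _ _ _ => (h M).eq_of_tgt _ _⟩⟩

theorem preservesEpi_of_isZero (p : ℤ) (h : ∀ M, Limits.IsZero ((CohIII.TFun P p).obj M)) :
    (CohIII.TFun P p).PreservesEpimorphisms :=
  ⟨fun {M N} _ _ => ⟨fun {_} _ _ _ => (h N).eq_of_src _ _⟩⟩

theorem isZero_T_of_residueField [IsNoetherianRing A] [IsLocalRing A]
    (hP : ∀ i, Module.Finite A (P.X i) ∧ Module.Flat A (P.X i)) (p : ℤ)
    (hk : Limits.IsZero ((CohIII.TFun P p).obj (ModuleCat.of A (IsLocalRing.ResidueField A))))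
    (M : ModuleCat.{u} A) : Limits.IsZero ((CohIII.TFun P p).obj M) := by
  have := (hP p).1
  have := (hP (p - 1)).1
  have := (hP (p - 1)).2
  rw [isZero_T_iff (p + 1) p (p - 1) rfl (by omega)] at hk ⊢
  exact mem_range_of_residueField (d_comp_d_hom P (p + 1) p (p - 1)) hk M

end Groth.Agent.FlatCxLib
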