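import Groth.Agent.FlatCxLib.DRank2
import Groth.Agent.FlatCxLib.Exact
import Mathlib.RingTheory.Flat.FaithfullyFlat.Basic

/-!
# Base change of the complex
-/

universe u

namespace Groth.Agent.FlatCxLib

open TensorProduct Function CategoryTheory

section Hom

variable {A : Type u} [CommRing A] {Pq Pp Pr : Type u} [AddCommGroup Pq] [AddCommGroup Pp]
  [AddCommGroup Pr] [Module A Pq] [Module A Pp] [Module A Pr] (f : Pq →ₗ[A] Pp) (g : Pp →ₗ[A] Pr)

theorem finrank_homologyQuot_baseChange (hfg : g ∘ₗ f = 0) (B : Type u) [CommRing B] [Algebra A B]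
    [Module.Flat A B] :
    Module.finrank B (homologyQuot (f.baseChange B) (g.baseChange B)) =
      Module.finrank B (B ⊗[A] homologyQuot f g) := by
  let i := (LinearMap.ker g).subtype
  have hker : ∀ z, g.baseChange B (i.baseChange B z) = 0 := fun z => by
    rw [← LinearMap.comp_apply, ← LinearMap.baseChange_comp, g.exact_subtype_ker_map.linearMap_comp_eq_zero,
      LinearMap.baseChange_zero, LinearMap.zero_apply]
  let β : B ⊗[A] LinearMap.ker g →ₗ[B] LinearMap.ker (g.baseChange B) :=
    (i.baseChange B).codRestrict _ hker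
  have hβ : Bijective β := by
    refine ⟨fun x y h => Module.Flat.lTensor_preserves_injective_linearMap (M := B) i
      Subtype.val_injective (congrArg Subtype.val h), ?_⟩
    rintro ⟨z, hz⟩
    obtain ⟨w, rfl⟩ := (Module.Flat.lTensor_exact B g.exact_subtype_ker_map z).mp hz
    exact ⟨w, rfl⟩
  let e := LinearEquiv.ofBijective β hβ
  let mk := ((LinearMap.range f).comap i).mkQ
  let π := mk.baseChange B ∘ₗ e.symm.toLinearMap
  have hπ : Surjective π :=
    (LinearMap.lTensor_surjective B (Submodule.mkQ_surjective _)).comp e.symm.surjective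
  have hπk : (LinearMap.range (f.baseChange B)).comap (LinearMap.ker (g.baseChange B)).subtype =
      LinearMap.ker π := by
    let f' : Pq →ₗ[A] LinearMap.ker g := f.codRestrict _ fun a => LinearMap.congr_fun hfg a
    have hex : Exact f' mk := by
      rw [LinearMap.exact_iff, Submodule.ker_mkQ]
      exact (LinearMap.range_codRestrict (LinearMap.ker g) f _).symm
    ext z
    obtain ⟨w, rfl⟩ := e.surjective z
    rw [LinearMap.mem_ker, Submodule.mem_comap, LinearMap.comp_apply]
    simp only [LinearEquiv.coe_coe, LinearEquiv.symm_apply_apply]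
    refine Iff.trans ?_ ((lTensor_exact B hex (Submodule.mkQ_surjective _) w).symm)
    constructor
    · rintro ⟨x, hx⟩
      refine ⟨x, ?_⟩
      apply Module.Flat.lTensor_preserves_injective_linearMap (M := B) i Subtype.val_injective
      rw [← LinearMap.comp_apply, ← LinearMap.lTensor_comp]
      exact hx
    · rintro ⟨x, rfl⟩
      refine ⟨x, ?_⟩
      show f.lTensor B x = i.lTensor B (f'.lTensor B x)
      rw [← LinearMap.comp_apply, ← LinearMap.lTensor_comp]
      rfl
  exact ((Submodule.quotEquivOfEq _ _ hπk).trans (π.quotKerEquivOfSurjective hπ)).finrank_eq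

theorem finrank_homologyQuot_congr {Qq Qp Qr : Type u} [AddCommGroup Qq] [AddCommGroup Qp]
    [AddCommGroup Qr] [Module A Qq] [Module A Qp] [Module A Qr] (f' : Qq →ₗ[A] Qp) (g' : Qp →ₗ[A] Qr)
    (eq : Pq ≃ₗ[A] Qq) (ep : Pp ≃ₗ[A] Qp) (er : Pr ≃ₗ[A] Qr)
    (hf : ∀ x, ep (f x) = f' (eq x)) (hg : ∀ x, er (g x) = g' (ep x)) :
    Module.finrank A (homologyQuot f g) = Module.finrank A (homologyQuot f' g') := by
  have hk : (LinearMap.ker g).map ep.toLinearMap = LinearMap.ker g' := by
    ext z
    obtain ⟨w, rfl⟩ := ep.surjective z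
    simp [← hg]
  let e := ep.ofSubmodules _ _ hk
  refine (Submodule.Quotient.equiv _ _ e ?_).finrank_eq
  ext ⟨z, hz⟩
  obtain ⟨w, rfl⟩ := ep.surjective z
  simp only [Submodule.mem_map, Submodule.mem_comap, LinearMap.mem_range]
  constructor
  · rintro ⟨v, ⟨x, hx⟩, hv⟩
    refine ⟨eq x, ?_⟩
    rw [← hf, hx]
    exact congrArg Subtype.val hv
  · rintro ⟨x, hx⟩
    obtain ⟨y, rfl⟩ := eq.surjective x
    rw [← hf] at hx
    have hy : f y = w := ep.injective hx
    refine ⟨⟨w, ?_⟩, ⟨y, hy⟩, Subtype.ext rfl⟩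
    rw [LinearMap.mem_ker]
    apply er.injective
    rw [hg, map_zero]
    exact hz

end Hom

section Cx

variable {A B : Type u} [CommRing A] [CommRing B]

theorem dRank_bcCx (φ : A →+* B) (P : ChainComplex (ModuleCat.{u} A) ℤ) (p : ℤ) (x' : PrimeSpectrum B) :
    CohIII.dRank (CohIII.bcCx φ P) p x' = CohIII.dRank P p (PrimeSpectrum.comap φ x') := by
  let _ := φ.toAlgebra
  set x := PrimeSpectrum.comap φ x'
  let k := x.asIdeal.ResidueField
  let k' := x'.asIdeal.ResidueField
  let ψ : k →+* k' := Ideal.ResidueField.map x.asIdeal x'.asIdeal φ rfl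
  let _ : Algebra k k' := ψ.toAlgebra
  have : IsScalarTower A k k' := IsScalarTower.of_algebraMap_eq fun a => by
    rw [RingHom.algebraMap_toAlgebra, IsScalarTower.algebraMap_apply A B k']
    exact (Ideal.ResidueField.map_algebraMap (I := x.asIdeal) (J := x'.asIdeal) φ rfl a).symm
  rw [CohIII.dRank, CohIII.dRank, finrank_bc_homology _ (p + 1) p (p - 1) rfl (by omega),
    finrank_bc_homology _ (p + 1) p (p - 1) rfl (by omega)]
  set f := (P.d (p + 1) p).hom
  set g := (P.d p (p - 1)).hom
  let e1 (M : Type u) [AddCommGroup M] [Module A M] : k' ⊗[B] (B ⊗[A] M) ≃ₗ[k'] k' ⊗[k] (k ⊗[A] M) :=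
    (AlgebraTensorModule.cancelBaseChange A B k' k' M).trans
      (AlgebraTensorModule.cancelBaseChange A k k' k' M).symm
  have key : Module.finrank k' (homologyQuot ((f.baseChange B).baseChange k') ((g.baseChange B).baseChange k'))
      = Module.finrank k' (homologyQuot ((f.baseChange k).baseChange k') ((g.baseChange k).baseChange k')) := by
    refine finrank_homologyQuot_congr _ _ _ _ (e1 _) (e1 _) (e1 _) (fun z => ?_) (fun z => ?_)
    all_goals
      induction z with
      | zero => simp
      | add a b ha hb => simp only [map_add, ha, hb]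
      | tmul c w =>
        induction w with
        | zero => simp
        | add a b ha hb => simp only [tmul_add, map_add, ha, hb]
        | tmul b m => simp [e1]
  refine key.trans ?_
  rw [finrank_homologyQuot_baseChange (f.baseChange k) (g.baseChange k) (baseChange_comp_zero P _ _ _) k']
  exact Module.finrank_baseChange

theorem flat_coker_bc_iff (φ : A →+* B) (P : ChainComplex (ModuleCat.{u} A) ℤ) (i j : ℤ) :
    letI := φ.toAlgebra
    Module.Flat B ((CohIII.bcCx φ P).X j ⧸ LinearMap.range ((CohIII.bcCx φ P).d i j).hom) ↔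
      Module.Flat B (B ⊗[A] (P.X j ⧸ LinearMap.range (P.d i j).hom)) := by
  let _ := φ.toAlgebra
  let π := (LinearMap.range (P.d i j).hom).mkQ.baseChange B
  have hex : Exact ((P.d i j).hom.baseChange B) π :=
    lTensor_exact B (LinearMap.exact_map_mkQ_range _) (Submodule.mkQ_surjective _)
  exact Module.Flat.equiv_iff ((Submodule.quotEquivOfEq _ _ (LinearMap.exact_iff.mp hex).symm).trans
    (π.quotKerEquivOfSurjective (LinearMap.lTensor_surjective B (Submodule.mkQ_surjective _))))

theorem flat_X_bc (φ : A →+* B) (P : ChainComplex (ModuleCat.{u} A) ℤ)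
    (hP : ∀ i, Module.Flat A (P.X i)) (i : ℤ) : Module.Flat B ((CohIII.bcCx φ P).X i) := by
  let _ := φ.toAlgebra
  have := hP i
  exact (inferInstance : Module.Flat B (B ⊗[A] P.X i))

theorem preservesEpi_bc_aux (φ : A →+* B) (P : ChainComplex (ModuleCat.{u} A) ℤ)
    (hP : ∀ i, Module.Flat A (P.X i)) (p r : ℤ) (hpr : r + 1 = p) :
    letI := φ.toAlgebra
    (CohIII.TFun (CohIII.bcCx φ P) p).PreservesEpimorphisms ↔
      Module.Flat B (B ⊗[A] (P.X r ⧸ LinearMap.range (P.d p r).hom)) := by
  have h1 := @preservesEpi_iff_flat B _ (CohIII.bcCx φ P) p r (flat_X_bc φ P hP) hpr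
  exact h1.trans (flat_coker_bc_iff φ P p r)

theorem preservesMono_bc_aux (φ : A →+* B) (P : ChainComplex (ModuleCat.{u} A) ℤ)
    (hP : ∀ i, Module.Flat A (P.X i)) (q p : ℤ) (hqp : p + 1 = q) :
    letI := φ.toAlgebra
    (CohIII.TFun (CohIII.bcCx φ P) p).PreservesMonomorphisms ↔
      Module.Flat B (B ⊗[A] (P.X p ⧸ LinearMap.range (P.d q p).hom)) := by
  have h1 := @preservesMono_iff_flat B _ (CohIII.bcCx φ P) q p (flat_X_bc φ P hP) hqp
  exact h1.trans (flat_coker_bc_iff φ P q p)

variable [inst : Algebra A B] (P : ChainComplex (ModuleCat.{u} A) ℤ)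

theorem preservesEpi_bc_iff (hP : ∀ i, Module.Flat A (P.X i)) (p r : ℤ) (hpr : r + 1 = p) :
    (CohIII.TFun (CohIII.bcCx (algebraMap A B) P) p).PreservesEpimorphisms ↔
      Module.Flat B (B ⊗[A] (P.X r ⧸ LinearMap.range (P.d p r).hom)) := by
  have h : inst = (algebraMap A B).toAlgebra := Algebra.algebra_ext _ _ fun _ => rfl
  have := preservesEpi_bc_aux (algebraMap A B) P hP p r hpr
  rwa [← h] at this

theorem preservesMono_bc_iff (hP : ∀ i, Module.Flat A (P.X i)) (q p : ℤ) (hqp : p + 1 = q) :
    (CohIII.TFun (CohIII.bcCx (algebraMap A B) P) p).PreservesMonomorphisms ↔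
      Module.Flat B (B ⊗[A] (P.X p ⧸ LinearMap.range (P.d q p).hom)) := by
  have h : inst = (algebraMap A B).toAlgebra := Algebra.algebra_ext _ _ fun _ => rfl
  have := preservesMono_bc_aux (algebraMap A B) P hP q p hqp
  rwa [← h] at this

theorem flat_baseChange_iff [Module.FaithfullyFlat A B] (M : Type u) [AddCommGroup M] [Module A M] :
    Module.Flat B (B ⊗[A] M) ↔ Module.Flat A M :=
  ⟨fun _ => Module.Flat.of_flat_tensorProduct A M B, fun _ => inferInstance⟩

end Cx

end Groth.Agent.FlatCxLib
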