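import Mathlib.RingTheory.Flat.Equalizer
import Mathlib.RingTheory.LocalRing.Module
import Mathlib.RingTheory.Noetherian.Basic

/-!
# Mapping properties of `M ↦ H(P ⊗ M)` for a three-term complex of flat modules

For `Pq --f--> Pp --g--> Pr` we characterise preservation of injections and of surjections by
flatness of the two cokernels.
-/

universe u

namespace Groth.Agent.FlatCxLib

open TensorProduct Function

section Gen

variable {A : Type u} [CommRing A]

/-- A submodule with flat quotient of a flat module is flat. -/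
theorem flat_of_exact_left {N₁ N₂ N₃ : Type u} [AddCommGroup N₁] [AddCommGroup N₂] [AddCommGroup N₃]
    [Module A N₁] [Module A N₂] [Module A N₃] (i : N₁ →ₗ[A] N₂) (p : N₂ →ₗ[A] N₃)
    (hex : Exact i p) (hp : Surjective p) (hi : Injective i) [Module.Flat A N₂] [Module.Flat A N₃] :
    Module.Flat A N₁ := by
  rw [Module.Flat.iff_lTensor_preserves_injective_linearMap]
  intro M N _ _ _ _ φ hφ
  have h1 : Injective (i.rTensor M) :=
    (LinearMap.lTensor_inj_iff_rTensor_inj M i).mp
      (LinearMap.lTensor_injective_of_exact_of_flat p hp i hi hex M)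
  have h2 := (Module.Flat.lTensor_preserves_injective_linearMap (M := N₂) φ hφ).comp h1
  rw [← LinearMap.coe_comp, LinearMap.lTensor_comp_rTensor, ← LinearMap.rTensor_comp_lTensor,
    LinearMap.coe_comp] at h2
  exact h2.of_comp

/-- An extension of flat modules is flat. -/
theorem flat_of_exact_mid {N₁ N₂ N₃ : Type u} [AddCommGroup N₁] [AddCommGroup N₂] [AddCommGroup N₃]
    [Module A N₁] [Module A N₂] [Module A N₃] (i : N₁ →ₗ[A] N₂) (p : N₂ →ₗ[A] N₃)
    (hex : Exact i p) (hp : Surjective p) (hi : Injective i) [Module.Flat A N₁] [Module.Flat A N₃] :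
    Module.Flat A N₂ := by
  rw [Module.Flat.iff_lTensor_preserves_injective_linearMap]
  intro M N _ _ _ _ φ hφ
  rw [injective_iff_map_eq_zero]
  intro c hc
  have hp0 : p.rTensor M c = 0 := by
    apply (injective_iff_map_eq_zero _).mp
      (Module.Flat.lTensor_preserves_injective_linearMap (M := N₃) φ hφ)
    rw [← LinearMap.comp_apply, LinearMap.lTensor_comp_rTensor, ← LinearMap.rTensor_comp_lTensor,
      LinearMap.comp_apply, hc, map_zero]
  obtain ⟨d, rfl⟩ := (rTensor_exact M hex hp _).mp hp0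
  have h1 : Injective (i.rTensor N) :=
    (LinearMap.lTensor_inj_iff_rTensor_inj N i).mp
      (LinearMap.lTensor_injective_of_exact_of_flat p hp i hi hex N)
  rw [← LinearMap.comp_apply, LinearMap.lTensor_comp_rTensor, ← LinearMap.rTensor_comp_lTensor,
    LinearMap.comp_apply] at hc
  have hd := (injective_iff_map_eq_zero _).mp h1 _ hc
  rw [(injective_iff_map_eq_zero _).mp
    (Module.Flat.lTensor_preserves_injective_linearMap (M := N₁) φ hφ) d hd, map_zero]

/-- The image of a map with flat cokernel into a flat module is flat. -/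
theorem flat_range {N₁ N₂ : Type u} [AddCommGroup N₁] [AddCommGroup N₂] [Module A N₁] [Module A N₂]
    (g : N₁ →ₗ[A] N₂) [Module.Flat A N₂] [Module.Flat A (N₂ ⧸ LinearMap.range g)] :
    Module.Flat A (LinearMap.range g) :=
  flat_of_exact_left (LinearMap.range g).subtype (LinearMap.range g).mkQ
    (LinearMap.exact_subtype_mkQ _) (Submodule.mkQ_surjective _) Subtype.val_injective

variable {Pq Pp Pr : Type u} [AddCommGroup Pq] [AddCommGroup Pp] [AddCommGroup Pr]
  [Module A Pq] [Module A Pp] [Module A Pr] (f : Pq →ₗ[A] Pp) (g : Pp →ₗ[A] Pr)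

/-- `M ↦ H(P ⊗ M)` preserves injections. -/
def MonoAt : Prop :=
  ∀ ⦃M N : Type u⦄ [AddCommGroup M] [AddCommGroup N] [Module A M] [Module A N] (φ : M →ₗ[A] N),
    Injective φ → ∀ y : Pp ⊗[A] M, g.rTensor M y = 0 →
      φ.lTensor Pp y ∈ LinearMap.range (f.rTensor N) → y ∈ LinearMap.range (f.rTensor M)

/-- `M ↦ H(P ⊗ M)` preserves surjections. -/
def EpiAt : Prop :=
  ∀ ⦃M N : Type u⦄ [AddCommGroup M] [AddCommGroup N] [Module A M] [Module A N] (φ : M →ₗ[A] N),
    Surjective φ → ∀ z : Pp ⊗[A] N, g.rTensor N z = 0 →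
      ∃ y : Pp ⊗[A] M, g.rTensor M y = 0 ∧ z - φ.lTensor Pp y ∈ LinearMap.range (f.rTensor N)

variable {f g}

theorem rTensor_comp_zero (hfg : g ∘ₗ f = 0) (M : Type u) [AddCommGroup M] [Module A M]
    (x : Pq ⊗[A] M) : g.rTensor M (f.rTensor M x) = 0 := by
  rw [← LinearMap.comp_apply, ← LinearMap.rTensor_comp, hfg, LinearMap.rTensor_zero, LinearMap.zero_apply]

theorem lTensor_rTensor_comm {X Y M N : Type u} [AddCommGroup X] [AddCommGroup Y] [AddCommGroup M]
    [AddCommGroup N] [Module A X] [Module A Y] [Module A M] [Module A N]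
    (g : X →ₗ[A] Y) (φ : M →ₗ[A] N) (x : X ⊗[A] M) :
    g.rTensor N (φ.lTensor X x) = φ.lTensor Y (g.rTensor M x) := by
  rw [← LinearMap.comp_apply, LinearMap.rTensor_comp_lTensor, ← LinearMap.lTensor_comp_rTensor,
    LinearMap.comp_apply]

theorem monoAt_of_flat [Module.Flat A (Pp ⧸ LinearMap.range f)] : MonoAt f g := by
  intro M N _ _ _ _ φ hφ y _ hy
  have hex := LinearMap.exact_map_mkQ_range f
  apply (rTensor_exact M hex (Submodule.mkQ_surjective _) y).mp
  apply (injective_iff_map_eq_zero _).mp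
    (Module.Flat.lTensor_preserves_injective_linearMap (M := Pp ⧸ LinearMap.range f) φ hφ)
  rw [← lTensor_rTensor_comm]
  exact (rTensor_exact N hex (Submodule.mkQ_surjective _) _).mpr hy

theorem flat_of_monoAt [Module.Flat A Pr] (hfg : g ∘ₗ f = 0) (h : MonoAt f g) :
    Module.Flat A (Pp ⧸ LinearMap.range f) := by
  rw [Module.Flat.iff_lTensor_preserves_injective_linearMap]
  intro M N _ _ _ _ φ hφ
  rw [injective_iff_map_eq_zero]
  intro c hc
  have hex := LinearMap.exact_map_mkQ_range f
  obtain ⟨y, rfl⟩ := LinearMap.rTensor_surjective M (Submodule.mkQ_surjective (LinearMap.range f)) c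
  rw [← lTensor_rTensor_comm] at hc
  obtain ⟨x, hx⟩ := (rTensor_exact N hex (Submodule.mkQ_surjective _) _).mp hc
  refine (rTensor_exact M hex (Submodule.mkQ_surjective _) y).mpr (h φ hφ y ?_ ⟨x, hx⟩)
  apply (injective_iff_map_eq_zero _).mp (Module.Flat.lTensor_preserves_injective_linearMap (M := Pr) φ hφ)
  rw [← lTensor_rTensor_comm, ← hx, rTensor_comp_zero hfg]

theorem monoAt_iff_flat [Module.Flat A Pr] (hfg : g ∘ₗ f = 0) :
    MonoAt f g ↔ Module.Flat A (Pp ⧸ LinearMap.range f) :=
  ⟨flat_of_monoAt hfg, fun _ => monoAt_of_flat⟩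

theorem flat_of_epiAt [Module.Flat A Pr] (hfg : g ∘ₗ f = 0) (h : EpiAt f g) :
    Module.Flat A (Pr ⧸ LinearMap.range g) := by
  refine flat_of_monoAt (g := (0 : Pr →ₗ[A] PUnit.{u + 1})) (LinearMap.zero_comp _) ?_
  intro M N _ _ _ _ φ hφ y _ hy
  obtain ⟨z, hz⟩ := hy
  let ψ := (LinearMap.range φ).mkQ
  have hψ : Exact φ ψ := LinearMap.exact_map_mkQ_range φ
  have hsψ : Surjective ψ := Submodule.mkQ_surjective _
  have hz0 : g.rTensor _ (ψ.lTensor Pp z) = 0 := by
    rw [lTensor_rTensor_comm, hz]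
    exact (lTensor_exact Pr hψ hsψ _).mpr ⟨y, rfl⟩
  obtain ⟨z', hz', w, hw⟩ := h ψ hsψ _ hz0
  obtain ⟨w', rfl⟩ := LinearMap.lTensor_surjective Pq hsψ w
  have : ψ.lTensor Pp (z - z' - f.rTensor N w') = 0 := by
    rw [map_sub, map_sub, ← lTensor_rTensor_comm, hw, sub_self]
  obtain ⟨v, hv⟩ := (lTensor_exact Pp hψ hsψ _).mp this
  refine ⟨v, ?_⟩
  apply Module.Flat.lTensor_preserves_injective_linearMap (M := Pr) φ hφ
  rw [← lTensor_rTensor_comm, hv, map_sub, map_sub, hz', rTensor_comp_zero hfg, sub_zero, sub_zero, hz]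

theorem epiAt_of_flat [Module.Flat A (Pr ⧸ LinearMap.range g)] : EpiAt f g := by
  intro M N _ _ _ _ φ hφ z hz
  let ι := (LinearMap.ker φ).subtype
  have hex : Exact ι φ := LinearMap.exact_subtype_ker_map φ
  obtain ⟨z', rfl⟩ := LinearMap.lTensor_surjective Pp hφ z
  rw [lTensor_rTensor_comm] at hz
  obtain ⟨y, hy⟩ := (lTensor_exact Pr hex hφ _).mp hz
  obtain ⟨v, rfl⟩ := monoAt_of_flat (f := g) (g := (0 : Pr →ₗ[A] PUnit.{u + 1})) ι
    Subtype.val_injective y (by simp) ⟨z', hy.symm⟩
  refine ⟨z' - ι.lTensor Pp v, ?_, ?_⟩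
  · rw [map_sub, lTensor_rTensor_comm, hy, sub_self]
  · rw [map_sub, (lTensor_exact Pp hex hφ _).mpr ⟨v, rfl⟩, sub_zero, sub_self]
    exact zero_mem _

theorem epiAt_iff_flat [Module.Flat A Pr] (hfg : g ∘ₗ f = 0) :
    EpiAt f g ↔ Module.Flat A (Pr ⧸ LinearMap.range g) :=
  ⟨flat_of_epiAt hfg, fun _ => epiAt_of_flat⟩

/-- With flat cokernel, the cycles of `P ⊗ M` come from the cycles of `P`. -/
theorem ker_rTensor_eq [Module.Flat A (Pr ⧸ LinearMap.range g)] (M : Type u) [AddCommGroup M]
    [Module A M] :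
    LinearMap.ker (g.rTensor M) = LinearMap.range ((LinearMap.ker g).subtype.rTensor M) := by
  have hi : Injective ((LinearMap.range g).subtype.rTensor M) :=
    (LinearMap.lTensor_inj_iff_rTensor_inj M _).mp
      (LinearMap.lTensor_injective_of_exact_of_flat _ (Submodule.mkQ_surjective _) _
        Subtype.val_injective (LinearMap.exact_subtype_mkQ (LinearMap.range g)) M)
  have hex : Exact (LinearMap.ker g).subtype g.rangeRestrict := by
    rw [LinearMap.exact_iff, LinearMap.ker_rangeRestrict, Submodule.range_subtype]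
  rw [← LinearMap.exact_iff.mp (rTensor_exact M hex g.surjective_rangeRestrict)]
  conv_lhs => rw [show g = (LinearMap.range g).subtype ∘ₗ g.rangeRestrict from rfl]
  rw [LinearMap.rTensor_comp, LinearMap.ker_comp, LinearMap.ker_eq_bot.mpr hi, Submodule.comap_bot]

/-- `ker g / im f`. -/
abbrev homologyQuot (f : Pq →ₗ[A] Pp) (g : Pp →ₗ[A] Pr) :=
  LinearMap.ker g ⧸ (LinearMap.range f).comap (LinearMap.ker g).subtype

variable (f g) in
/-- `ker g / im f → Pp / im f`. -/
def homologyToCoker : homologyQuot f g →ₗ[A] Pp ⧸ LinearMap.range f :=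
  Submodule.mapQ _ _ (LinearMap.ker g).subtype le_rfl

variable (f) in
theorem homologyToCoker_injective : Injective (homologyToCoker f g) := by
  rw [← LinearMap.ker_eq_bot, homologyToCoker, Submodule.mapQ, Submodule.ker_liftQ, LinearMap.ker_comp,
    Submodule.ker_mkQ, Submodule.mkQ_map_self]

theorem exact_homologyToCoker (hfg : g ∘ₗ f = 0) :
    Exact (homologyToCoker f g)
      ((LinearMap.range f).liftQ g.rangeRestrict (by
        rw [LinearMap.ker_rangeRestrict]; exact LinearMap.range_le_ker_iff.mpr hfg)) := by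
  rw [LinearMap.exact_iff, Submodule.ker_liftQ, LinearMap.ker_rangeRestrict, homologyToCoker,
    Submodule.mapQ, Submodule.range_liftQ, LinearMap.range_comp, Submodule.range_subtype]

theorem flat_coker_iff_flat_homology [Module.Flat A Pr] [Module.Flat A (Pr ⧸ LinearMap.range g)]
    (hfg : g ∘ₗ f = 0) :
    Module.Flat A (Pp ⧸ LinearMap.range f) ↔ Module.Flat A (homologyQuot f g) := by
  have := flat_range g
  have hs : Surjective ((LinearMap.range f).liftQ g.rangeRestrict (by
      rw [LinearMap.ker_rangeRestrict]; exact LinearMap.range_le_ker_iff.mpr hfg)) := by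
    intro y
    obtain ⟨x, rfl⟩ := g.surjective_rangeRestrict y
    exact ⟨Submodule.Quotient.mk x, rfl⟩
  constructor
  · intro _
    exact flat_of_exact_left _ _ (exact_homologyToCoker hfg) hs (homologyToCoker_injective f)
  · intro _
    exact flat_of_exact_mid _ _ (exact_homologyToCoker hfg) hs (homologyToCoker_injective f)

end Gen

section Local

variable {A : Type u} [CommRing A] [IsNoetherianRing A] [IsLocalRing A]
  {Pq Pp Pr : Type u} [AddCommGroup Pq] [AddCommGroup Pp] [AddCommGroup Pr]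
  [Module A Pq] [Module A Pp] [Module A Pr]
  [Module.Finite A Pp] [Module.Finite A Pr] [Module.Flat A Pr]
  {f : Pq →ₗ[A] Pp} {g : Pp →ₗ[A] Pr}

local notation "k" => IsLocalRing.ResidueField A

variable (f g) in
/-- `H(P) → H(P ⊗ k)` is surjective. -/
def SurjAt : Prop :=
  ∀ z : Pp ⊗[A] k, g.rTensor k z = 0 →
    ∃ x : Pp, g x = 0 ∧ z - x ⊗ₜ[A] (1 : k) ∈ LinearMap.range (f.rTensor k)

omit [IsNoetherianRing A] [Module.Finite A Pp] [Module.Finite A Pr] [Module.Flat A Pr] in
theorem surjAt_of_epiAt (h : EpiAt f g) : SurjAt f g := by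
  intro z hz
  obtain ⟨y, hy, hy'⟩ := h (Algebra.linearMap A k) (fun c => by
    obtain ⟨a, rfl⟩ := IsLocalRing.residue_surjective c
    exact ⟨a, rfl⟩) z hz
  obtain ⟨x, rfl⟩ := (TensorProduct.rid A Pp).symm.surjective y
  refine ⟨x, ?_, ?_⟩
  · have := congrArg (TensorProduct.rid A Pr) hy
    simpa using this
  · simpa using hy'

theorem flat_of_surjAt (hfg : g ∘ₗ f = 0) (h : SurjAt f g) :
    Module.Flat A (Pr ⧸ LinearMap.range g) := by
  have : Module.Free A Pr := Module.free_of_flat_of_isLocalRing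
  have hinj : Injective ((LinearMap.range g).subtype.lTensor k) := by
    rw [LinearMap.lTensor_inj_iff_rTensor_inj, injective_iff_map_eq_zero]
    intro b hb
    obtain ⟨z, rfl⟩ := LinearMap.rTensor_surjective k g.surjective_rangeRestrict b
    rw [← LinearMap.comp_apply, ← LinearMap.rTensor_comp, LinearMap.subtype_comp_codRestrict] at hb
    obtain ⟨x, hx, w, hw⟩ := h z hb
    have hzero : g.rangeRestrict ∘ₗ f = 0 := LinearMap.ext fun a => Subtype.ext (LinearMap.congr_fun hfg a)
    rw [show z = x ⊗ₜ[A] (1 : k) + f.rTensor k w by rw [hw]; abel, map_add, LinearMap.rTensor_tmul,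
      rTensor_comp_zero hzero, add_zero, show g.rangeRestrict x = 0 from Subtype.ext hx, zero_tmul]
  have : Module.Free A (Pr ⧸ LinearMap.range g) :=
    Module.free_of_lTensor_residueField_injective (LinearMap.range g).subtype (LinearMap.range g).mkQ
      (Submodule.mkQ_surjective _) (LinearMap.exact_subtype_mkQ _) hinj
  infer_instance

theorem surjAt_iff_flat (hfg : g ∘ₗ f = 0) :
    SurjAt f g ↔ Module.Flat A (Pr ⧸ LinearMap.range g) :=
  ⟨flat_of_surjAt hfg, fun _ => surjAt_of_epiAt epiAt_of_flat⟩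

/-- If `H(P ⊗ k) = 0` then `H(P ⊗ M) = 0`. -/
theorem mem_range_of_residueField (hfg : g ∘ₗ f = 0)
    (hk : LinearMap.ker (g.rTensor k) ≤ LinearMap.range (f.rTensor k))
    (M : Type u) [AddCommGroup M] [Module A M] :
    LinearMap.ker (g.rTensor M) ≤ LinearMap.range (f.rTensor M) := by
  have hflat : Module.Flat A (Pr ⧸ LinearMap.range g) :=
    flat_of_surjAt hfg fun z hz => ⟨0, map_zero _, by simpa using hk hz⟩
  have := flat_range g
  let f' : Pq →ₗ[A] LinearMap.ker g := f.codRestrict _ fun a => LinearMap.congr_fun hfg a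
  have hf' : f = (LinearMap.ker g).subtype ∘ₗ f' := rfl
  have hsurj : Surjective f' := by
    rw [← LinearMap.range_eq_top]
    have hker : Injective ((LinearMap.ker g).subtype.rTensor k) := by
      have hex : Exact (LinearMap.ker g).subtype g.rangeRestrict := by
        rw [LinearMap.exact_iff, LinearMap.ker_rangeRestrict, Submodule.range_subtype]
      exact (LinearMap.lTensor_inj_iff_rTensor_inj _ _).mp
        (LinearMap.lTensor_injective_of_exact_of_flat _ g.surjective_rangeRestrict _
          Subtype.val_injective hex _)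
    have hs : Surjective (f'.rTensor k) := by
      intro z
      have : (LinearMap.ker g).subtype.rTensor k z ∈ LinearMap.range (f.rTensor k) :=
        hk ((ker_rTensor_eq (g := g) k).ge ⟨z, rfl⟩)
      obtain ⟨w, hw⟩ := this
      refine ⟨w, hker ?_⟩
      rw [← hw, hf', LinearMap.rTensor_comp, LinearMap.comp_apply]
    have : Module.Finite A (LinearMap.ker g) := Module.IsNoetherian.finite A _
    have hq : Subsingleton (k ⊗[A] (LinearMap.ker g ⧸ LinearMap.range f')) := by
      refine ⟨fun a b => ?_⟩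
      suffices ∀ a : k ⊗[A] (LinearMap.ker g ⧸ LinearMap.range f'), a = 0 by rw [this a, this b]
      clear a b
      intro a
      obtain ⟨a, rfl⟩ := (TensorProduct.comm A _ _).surjective a
      obtain ⟨a, rfl⟩ := LinearMap.rTensor_surjective k (Submodule.mkQ_surjective _) a
      obtain ⟨a, rfl⟩ := hs a
      rw [← LinearMap.comp_apply, ← LinearMap.rTensor_comp, LinearMap.range_mkQ_comp,
        LinearMap.rTensor_zero, LinearMap.zero_apply, map_zero]
    rw [IsLocalRing.subsingleton_tensorProduct (R := A)] at hq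
    exact Submodule.Quotient.subsingleton_iff.mp hq
  rw [ker_rTensor_eq]
  rintro _ ⟨y, rfl⟩
  obtain ⟨w, rfl⟩ := LinearMap.rTensor_surjective M hsurj y
  exact ⟨w, by rw [hf', LinearMap.rTensor_comp, LinearMap.comp_apply]⟩

end Local

end Groth.Agent.FlatCxLib
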