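import Groth.Agent.FlatCxLib.DRank2
import Mathlib.Algebra.Homology.ShortComplex.ModuleCat
import Mathlib.RingTheory.Flat.EquationalCriterion

/-!
# Cochain complexes of finite free modules with locally constant Betti function
-/

universe u

namespace Groth.Agent.FlatCxLib

open TensorProduct Function CategoryTheory CategoryTheory.Limits

section Cochain

variable {A : Type u} [CommRing A]

/-- Homology of a cochain complex of modules is `ker / im`. -/
noncomputable def cochainHomologyEquiv (K : CochainComplex (ModuleCat.{u} A) ℤ) (q p r : ℤ)
    (hqp : q + 1 = p) (hpr : p + 1 = r) :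
    K.homology p ≃ₗ[A] homologyQuot (K.d q p).hom (K.d p r).hom :=
  (K.homologyIsoSc' q p r (ComplexShape.prev_eq' _ hqp) (ComplexShape.next_eq' _ hpr) ≪≫
    (K.sc' q p r).moduleCatHomologyIso).toLinearEquiv.trans
    (Submodule.quotEquivOfEq _ _ (by
      ext ⟨x, hx⟩
      constructor
      · rintro ⟨w, hw⟩
        exact ⟨w, congrArg Subtype.val hw⟩
      · rintro ⟨w, hw⟩
        exact ⟨w, Subtype.ext hw⟩))

theorem finrank_extend_cochain_aux {B : Type u} [CommRing B] (φ : A →+* B)
    (P : CochainComplex (ModuleCat.{u} A) ℤ) (q p r : ℤ) (hqp : q + 1 = p) (hpr : p + 1 = r) :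
    letI := φ.toAlgebra
    Module.finrank B ((((ModuleCat.extendScalars φ).mapHomologicalComplex
          (ComplexShape.up ℤ)).obj P).homology p) =
      Module.finrank B (homologyQuot ((P.d q p).hom.baseChange B) ((P.d p r).hom.baseChange B)) :=
  (cochainHomologyEquiv _ q p r hqp hpr).finrank_eq

theorem finrank_extend_cochain {B : Type u} [CommRing B] [inst : Algebra A B]
    (P : CochainComplex (ModuleCat.{u} A) ℤ) (q p r : ℤ) (hqp : q + 1 = p) (hpr : p + 1 = r) :
    Module.finrank B ((((ModuleCat.extendScalars (algebraMap A B)).mapHomologicalComplex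
          (ComplexShape.up ℤ)).obj P).homology p) =
      Module.finrank B (homologyQuot ((P.d q p).hom.baseChange B) ((P.d p r).hom.baseChange B)) := by
  have h : inst = (algebraMap A B).toAlgebra := Algebra.algebra_ext _ _ fun _ => rfl
  have aux : ∀ (φ : A →+* B) (i : Algebra A B), i = φ.toAlgebra →
      letI := i
      Module.finrank B ((((ModuleCat.extendScalars φ).mapHomologicalComplex
          (ComplexShape.up ℤ)).obj P).homology p) =
        Module.finrank B (homologyQuot ((P.d q p).hom.baseChange B) ((P.d p r).hom.baseChange B)) := by
    rintro φ _ rfl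
    exact finrank_extend_cochain_aux φ P q p r hqp hpr
  exact aux _ inst h

/-- Two upper semicontinuous `ℕ`-valued functions with locally constant sum are locally constant. -/
theorem isLocallyConstant_of_usc_add {X : Type*} [TopologicalSpace X] (f g : X → ℕ)
    (hf : UpperSemicontinuous f) (hg : UpperSemicontinuous g)
    (h : IsLocallyConstant fun x => f x + g x) : IsLocallyConstant f := by
  rw [IsLocallyConstant.iff_eventually_eq]
  intro x
  filter_upwards [hf x _ (Nat.lt_succ_self _), hg x _ (Nat.lt_succ_self _), h.eventually_eq x]
    with y h1 h2 h3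
  omega

theorem homology_finite_projective_of_betti [IsReduced A] (P : CochainComplex (ModuleCat.{u} A) ℤ)
    (hP : ∀ j : ℤ, Module.Finite A (P.X j) ∧ Module.Free A (P.X j)) (q p r : ℤ) (hqp : q + 1 = p)
    (hpr : p + 1 = r)
    (hconst : IsLocallyConstant fun x : PrimeSpectrum A =>
      Module.finrank x.asIdeal.ResidueField
        (homologyQuot ((P.d q p).hom.baseChange x.asIdeal.ResidueField)
          ((P.d p r).hom.baseChange x.asIdeal.ResidueField))) :
    Module.Finite A (P.homology p) ∧ Module.Projective A (P.homology p) := by
  have := (hP q).1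
  have := (hP p).1
  have := (hP r).1
  have := (hP p).2
  have := (hP r).2
  let f := (P.d q p).hom
  let g := (P.d p r).hom
  have : Module.FinitePresentation A (P.X r) := Module.finitePresentation_of_projective A _
  have : Module.FinitePresentation A (P.X p) := Module.finitePresentation_of_projective A _
  have hgf : g ∘ₗ f = 0 := congrArg ModuleCat.Hom.hom (P.d_comp_d q p r)
  let C₁ := P.X p ⧸ LinearMap.range f
  let C₂ := P.X r ⧸ LinearMap.range g
  have hsum : IsLocallyConstant fun x => fibreRank (A := A) C₁ x + fibreRank (A := A) C₂ x := by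
    have : (fun x => fibreRank (A := A) C₁ x + fibreRank (A := A) C₂ x) = fun x : PrimeSpectrum A =>
        Module.finrank x.asIdeal.ResidueField
          (homologyQuot (f.baseChange x.asIdeal.ResidueField) (g.baseChange x.asIdeal.ResidueField))
          + Module.rankAtStalk (P.X r) x := by
      funext x
      rw [Module.rankAtStalk_eq, fibreRank, fibreRank, ← finrank_coker_baseChange f,
        ← finrank_coker_baseChange g]
      exact (finrank_homologyQuot_add _ _ (by
        rw [← LinearMap.baseChange_comp, hgf, LinearMap.baseChange_zero])).symm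
    rw [this]
    exact hconst.comp₂ Module.isLocallyConstant_rankAtStalk (· + ·)
  have hu1 := upperSemicontinuous_fibreRank (A := A) C₁
  have hu2 := upperSemicontinuous_fibreRank (A := A) C₂
  have hl1 := isLocallyConstant_of_usc_add _ _ hu1 hu2 hsum
  have hl2 := isLocallyConstant_of_usc_add _ _ hu2 hu1 (by simpa [add_comm] using hsum)
  have hflat1 : Module.Flat A C₁ := flat_of_isLocallyConstant_fibreRank C₁ hl1
  have hflat2 : Module.Flat A C₂ := flat_of_isLocallyConstant_fibreRank C₂ hl2
  have hfp : ∀ (M N : Type u) [AddCommGroup M] [Module A M] [AddCommGroup N] [Module A N]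
      [Module.Finite A M] [Module.Finite A N] [Module.Free A N] (φ : M →ₗ[A] N),
      Module.FinitePresentation A (N ⧸ LinearMap.range φ) := fun M N _ _ _ _ _ _ _ φ =>
    have : Module.FinitePresentation A N := Module.finitePresentation_of_projective A _
    Module.finitePresentation_of_surjective (LinearMap.range φ).mkQ (Submodule.mkQ_surjective _)
      (by rw [Submodule.ker_mkQ]; exact Module.Finite.iff_fg.mp inferInstance)
  have := hfp _ _ f
  have := hfp _ _ g
  have : Module.Projective A C₁ := Module.Flat.projective_of_finitePresentation
  have : Module.Projective A C₂ := Module.Flat.projective_of_finitePresentation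
  -- the range of `g` is a direct summand of `X r`, so it is finite projective
  obtain ⟨s₂, hs₂⟩ := Module.projective_lifting_property (LinearMap.range g).mkQ LinearMap.id
    (Submodule.mkQ_surjective _)
  have hproj : Module.Projective A (LinearMap.range g) := by
    let π : P.X r →ₗ[A] LinearMap.range g :=
      (LinearMap.id - s₂ ∘ₗ (LinearMap.range g).mkQ).codRestrict _ fun z => by
        rw [← Submodule.Quotient.mk_eq_zero]
        have := LinearMap.congr_fun hs₂ ((LinearMap.range g).mkQ z)
        simp only [LinearMap.comp_apply, LinearMap.id_apply, Submodule.mkQ_apply] at this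
        simp [Submodule.Quotient.mk_sub, this]
    refine Module.Projective.of_split (LinearMap.range g).subtype π ?_
    ext z
    have : (LinearMap.range g).mkQ (z : P.X r) = 0 := (Submodule.Quotient.mk_eq_zero _).mpr z.2
    simp [π, this]
  -- the exact sequence `0 → H → C₁ → range g → 0`
  let q' : C₁ →ₗ[A] LinearMap.range g := (LinearMap.range f).liftQ g.rangeRestrict (by
    rw [LinearMap.ker_rangeRestrict]; exact LinearMap.range_le_ker_iff.mpr hgf)
  have hq : Surjective q' := by
    rintro ⟨_, z, rfl⟩
    exact ⟨Submodule.Quotient.mk z, rfl⟩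
  obtain ⟨s, hs⟩ := Module.projective_lifting_property q' LinearMap.id hq
  let e := cochainHomologyEquiv P q p r hqp hpr
  have hexq : LinearMap.ker q' = LinearMap.range (homologyToCoker f g) :=
    LinearMap.exact_iff.mp (exact_homologyToCoker hgf)
  let e' : LinearMap.ker q' ≃ₗ[A] P.homology p :=
    ((LinearEquiv.ofEq _ _ hexq).trans
      (LinearEquiv.ofInjective _ (homologyToCoker_injective (g := g) f)).symm).trans e.symm
  have hker : Module.Finite A (LinearMap.ker q') ∧ Module.Projective A (LinearMap.ker q') := by
    let π : C₁ →ₗ[A] LinearMap.ker q' := (LinearMap.id - s ∘ₗ q').codRestrict _ fun z => by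
      have := LinearMap.congr_fun hs (q' z)
      simp only [LinearMap.comp_apply, LinearMap.id_apply] at this
      simp [this]
    have hπ : π ∘ₗ (LinearMap.ker q').subtype = LinearMap.id := by
      ext z
      simp [π, LinearMap.mem_ker.mp z.2]
    exact ⟨Module.Finite.of_surjective π fun z => ⟨z, LinearMap.congr_fun hπ z⟩,
      Module.Projective.of_split (LinearMap.ker q').subtype π hπ⟩
  have := hker.1
  have := hker.2
  exact ⟨Module.Finite.equiv e', Module.Projective.of_equiv e'⟩

end Cochain

end Groth.Agent.FlatCxLib
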