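import Groth.Agent.FlatCxLib.DRank
import Mathlib.RingTheory.Flat.Localization

/-!
# More on fibre dimensions: base change, reduced rings
-/

universe u

namespace Groth.Agent.FlatCxLib

open TensorProduct Function CategoryTheory

variable {A : Type u} [CommRing A]

theorem fibreRank_baseChange {B : Type u} [CommRing B] [Algebra A B] (M : Type u) [AddCommGroup M]
    [Module A M] (x' : PrimeSpectrum B) :
    fibreRank (B ⊗[A] M) x' = fibreRank M (PrimeSpectrum.comap (algebraMap A B) x') := by
  let p := (PrimeSpectrum.comap (algebraMap A B) x').asIdeal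
  let k := p.ResidueField
  let k' := x'.asIdeal.ResidueField
  let φ : k →+* k' := Ideal.ResidueField.map p x'.asIdeal (algebraMap A B) rfl
  let _ : Algebra k k' := φ.toAlgebra
  have : IsScalarTower A k k' := IsScalarTower.of_algebraMap_eq fun a => by
    rw [RingHom.algebraMap_toAlgebra, IsScalarTower.algebraMap_apply A B k']
    exact (Ideal.ResidueField.map_algebraMap (I := p) (J := x'.asIdeal) (algebraMap A B) rfl a).symm
  rw [fibreRank, fibreRank, (AlgebraTensorModule.cancelBaseChange A B k' k' M).finrank_eq,
    ← (AlgebraTensorModule.cancelBaseChange A k k' k' M).finrank_eq, Module.finrank_baseChange]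

/-- Reduced local ring and constant fibre dimension gives freeness. -/
theorem free_of_fibreRank_eq [IsReduced A] [IsLocalRing A] (M : Type u) [AddCommGroup M] [Module A M]
    [Module.Finite A M] (n : ℕ) (h : ∀ x : PrimeSpectrum A, fibreRank M x = n) : Module.Free A M := by
  let k := IsLocalRing.ResidueField A
  let x₀ := IsLocalRing.closedPoint A
  let w := Module.Free.chooseBasis k (k ⊗[A] M)
  obtain ⟨v, eq⟩ := (TensorProduct.mk_surjective A M k IsLocalRing.residue_surjective).comp_left w
  let ι := Module.Free.ChooseBasisIndex k (k ⊗[A] M)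
  have hspan : Submodule.span A (Set.range v) = ⊤ :=
    IsLocalRing.span_eq_top_of_tmul_eq_basis _ w (congr_fun eq)
  let φ : (ι → A) →ₗ[A] M := Fintype.linearCombination A v
  have hφ : Surjective φ := by
    rw [← LinearMap.range_eq_top, Fintype.range_linearCombination, hspan]
  have hn : Fintype.card ι = n := by
    rw [← Module.finrank_eq_card_chooseBasisIndex]
    let K := x₀.asIdeal.ResidueField
    let e : k →+* K := Ideal.Quotient.lift _ (algebraMap A K) fun a ha =>
      Ideal.algebraMap_residueField_eq_zero.mpr ha
    let _ : Algebra k K := e.toAlgebra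
    have : IsScalarTower A k K := IsScalarTower.of_algebraMap_eq fun a => rfl
    have hb : Module.finrank K (K ⊗[k] (k ⊗[A] M)) = Module.finrank k (k ⊗[A] M) :=
      Module.finrank_baseChange
    rw [← h x₀, ← hb]
    exact (AlgebraTensorModule.cancelBaseChange A k K K M).finrank_eq
  have hbij : Bijective φ := by
    refine ⟨?_, hφ⟩
    rw [injective_iff_map_eq_zero]
    intro c hc
    funext i
    refine (nilradical_eq_zero A ▸ ?_ : c i ∈ (0 : Ideal A))
    rw [nilradical_eq_sInf, Submodule.mem_sInf]
    intro (q : Ideal A) (hq : q.IsPrime)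
    let K := q.ResidueField
    have hs : Surjective (φ.baseChange K) := LinearMap.lTensor_surjective K hφ
    have hd : Module.finrank K (K ⊗[A] (ι → A)) = Module.finrank K (K ⊗[A] M) := by
      rw [Module.finrank_baseChange, Module.finrank_fintype_fun_eq_card, hn]
      exact (h ⟨q, hq⟩).symm
    have hinj := (LinearMap.injective_iff_surjective_of_finrank_eq_finrank hd).mpr hs
    have h0 : (1 : K) ⊗ₜ[A] c = 0 := hinj (by rw [LinearMap.baseChange_tmul, hc, tmul_zero, map_zero])
    have := congrArg (fun z => (TensorProduct.rid A K) ((LinearMap.proj i).lTensor K z)) h0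
    rw [← Ideal.algebraMap_residueField_eq_zero]
    simpa [Algebra.algebraMap_eq_smul_one] using this
  exact Module.Free.of_equiv (LinearEquiv.ofBijective φ hbij)

/-- Over a reduced ring, locally constant fibre dimension gives flatness. -/
theorem flat_of_isLocallyConstant_fibreRank [IsReduced A] (M : Type u) [AddCommGroup M] [Module A M]
    [Module.Finite A M] (h : IsLocallyConstant (fibreRank (A := A) M)) : Module.Flat A M := by
  refine Module.flat_of_localized_maximal M fun m hm => ?_
  let Am := Localization.AtPrime m
  have : IsReduced Am := isReduced_localizationPreserves m.primeCompl Am inferInstance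
  have hc : ∀ x : PrimeSpectrum Am, fibreRank (Am ⊗[A] M) x = fibreRank M ⟨m, inferInstance⟩ := by
    intro x
    rw [fibreRank_baseChange]
    set y := PrimeSpectrum.comap (algebraMap A Am) x
    have hy : y.asIdeal ≤ m := by
      refine le_trans (Ideal.comap_mono (IsLocalRing.le_maximalIdeal x.isPrime.ne_top)) ?_
      exact (IsLocalization.AtPrime.comap_maximalIdeal Am m).le
    have hopen : IsOpen (fibreRank (A := A) M ⁻¹' {fibreRank M ⟨m, inferInstance⟩}) := h _
    exact ((PrimeSpectrum.le_iff_specializes y ⟨m, inferInstance⟩).mp hy).mem_open hopen rfl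
  have := free_of_fibreRank_eq (A := Am) (Am ⊗[A] M) _ hc
  have : Module.Flat Am (LocalizedModule m.primeCompl M) :=
    Module.Flat.of_linearEquiv (LocalizedModule.equivTensorProduct m.primeCompl M)
  exact Module.Flat.trans A Am _

end Groth.Agent.FlatCxLib
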