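import Groth.Prelude.Def_ega3
import Groth.Agent.FlatCxLib.Algebra
import Mathlib.Algebra.Homology.ConcreteCategory
import Mathlib.Algebra.Category.ModuleCat.EpiMono

/-!
# Element description of `CohIII.TFun`
-/

universe u

namespace Groth.Agent.FlatCxLib

open TensorProduct Function CategoryTheory

variable {A : Type u} [CommRing A]

section Cls

variable (K L : ChainComplex (ModuleCat.{u} A) ℤ) (i j k : ℤ)

theorem next_eq (hjk : k + 1 = j) : (ComplexShape.down ℤ).next j = k :=
  ComplexShape.next_eq' _ hjk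

theorem prev_eq (hij : j + 1 = i) : (ComplexShape.down ℤ).prev j = i :=
  ComplexShape.prev_eq' _ hij

/-- The class of a cycle in homology. -/
noncomputable def cls (hjk : k + 1 = j) : LinearMap.ker (K.d j k).hom →ₗ[A] K.homology j :=
  (K.liftCycles (ModuleCat.ofHom (LinearMap.ker (K.d j k).hom).subtype) k (next_eq j k hjk)
    (ModuleCat.hom_ext (LinearMap.ext fun x => x.2)) ≫ K.homologyπ j).hom

theorem iCycles_liftCycles (hjk : k + 1 = j) (x : LinearMap.ker (K.d j k).hom) :
    K.iCycles j (K.liftCycles (ModuleCat.ofHom (LinearMap.ker (K.d j k).hom).subtype) k (next_eq j k hjk)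
      (ModuleCat.hom_ext (LinearMap.ext fun x => x.2)) x) = (x : K.X j) := by
  rw [← CategoryTheory.comp_apply, HomologicalComplex.liftCycles_i]
  rfl

theorem cls_surjective (hjk : k + 1 = j) : Surjective (cls K j k hjk) := by
  intro h
  obtain ⟨c, rfl⟩ := (ModuleCat.epi_iff_surjective (K.homologyπ j)).mp inferInstance h
  refine ⟨⟨K.iCycles j c, ?_⟩, congrArg (K.homologyπ j) ?_⟩
  · rw [LinearMap.mem_ker]
    show K.d j k (K.iCycles j c) = 0
    rw [← CategoryTheory.comp_apply, K.iCycles_d j k]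
    rfl
  · exact (ModuleCat.mono_iff_injective (K.iCycles j)).mp inferInstance (iCycles_liftCycles K j k hjk _)

theorem cls_eq_zero_iff (hij : j + 1 = i) (hjk : k + 1 = j) (x : LinearMap.ker (K.d j k).hom) :
    cls K j k hjk x = 0 ↔ (x : K.X j) ∈ LinearMap.range (K.d i j).hom := by
  have hex := ShortComplex.exact_of_g_is_cokernel
    (ShortComplex.mk (K.toCycles i j) (K.homologyπ j) (K.toCycles_comp_homologyπ i j))
    (K.homologyIsCokernel i j (prev_eq i j hij))
  rw [ShortComplex.moduleCat_exact_iff] at hex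
  set c := K.liftCycles (ModuleCat.ofHom (LinearMap.ker (K.d j k).hom).subtype) k (next_eq j k hjk)
      (ModuleCat.hom_ext (LinearMap.ext fun x => x.2)) x
  constructor
  · intro h
    obtain ⟨w, hw⟩ := hex c h
    refine ⟨w, ?_⟩
    have e := congrArg (K.iCycles j) hw
    dsimp only at e
    rw [← CategoryTheory.comp_apply, HomologicalComplex.toCycles_i, iCycles_liftCycles K j k hjk] at e
    exact e
  · rintro ⟨w, hw⟩
    have hc : c = K.toCycles i j w := by
      apply (ModuleCat.mono_iff_injective (K.iCycles j)).mp inferInstance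
      rw [iCycles_liftCycles K j k hjk, ← CategoryTheory.comp_apply, HomologicalComplex.toCycles_i]
      exact hw.symm
    show K.homologyπ j c = 0
    rw [hc, ← CategoryTheory.comp_apply, K.toCycles_comp_homologyπ]
    rfl

variable {K L}

theorem map_mem_ker (φ : K ⟶ L) {x : K.X j} (hx : x ∈ LinearMap.ker (K.d j k).hom) :
    φ.f j x ∈ LinearMap.ker (L.d j k).hom := by
  rw [LinearMap.mem_ker] at hx ⊢
  have := CategoryTheory.congr_fun (φ.comm j k) x
  simp only [CategoryTheory.comp_apply] at this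
  rw [show (L.d j k).hom (φ.f j x) = L.d j k (φ.f j x) from rfl, this,
    show K.d j k x = 0 from hx, map_zero]

theorem cls_map (hjk : k + 1 = j) (φ : K ⟶ L) (x : LinearMap.ker (K.d j k).hom) :
    HomologicalComplex.homologyMap φ j (cls K j k hjk x) =
      cls L j k hjk ⟨φ.f j x, map_mem_ker j k φ x.2⟩ := by
  set c := K.liftCycles (ModuleCat.ofHom (LinearMap.ker (K.d j k).hom).subtype) k (next_eq j k hjk)
      (ModuleCat.hom_ext (LinearMap.ext fun x => x.2)) x
  show HomologicalComplex.homologyMap φ j (K.homologyπ j c) = L.homologyπ j _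
  rw [← CategoryTheory.comp_apply, HomologicalComplex.homologyπ_naturality, CategoryTheory.comp_apply]
  congr 1
  apply (ModuleCat.mono_iff_injective (L.iCycles j)).mp inferInstance
  rw [← CategoryTheory.comp_apply, HomologicalComplex.cyclesMap_i, CategoryTheory.comp_apply,
    iCycles_liftCycles K j k hjk]
  exact (iCycles_liftCycles L j k hjk ⟨φ.f j x, map_mem_ker j k φ x.2⟩).symm

theorem homologyMap_injective_iff (hij : j + 1 = i) (hjk : k + 1 = j) (φ : K ⟶ L) :
    Injective (HomologicalComplex.homologyMap φ j).hom ↔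
      ∀ y : K.X j, K.d j k y = 0 → φ.f j y ∈ LinearMap.range (L.d i j).hom →
        y ∈ LinearMap.range (K.d i j).hom := by
  rw [injective_iff_map_eq_zero]
  constructor
  · intro h y hy hy'
    refine (cls_eq_zero_iff K i j k hij hjk ⟨y, hy⟩).mp (h _ ?_)
    refine (cls_map j k hjk φ ⟨y, hy⟩).trans ((cls_eq_zero_iff L i j k hij hjk _).mpr hy')
  · intro h a ha
    obtain ⟨⟨y, hy⟩, rfl⟩ := cls_surjective K j k hjk a
    refine (cls_eq_zero_iff K i j k hij hjk _).mpr (h y hy ?_)
    exact (cls_eq_zero_iff L i j k hij hjk _).mp ((cls_map j k hjk φ ⟨y, hy⟩).symm.trans ha)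

theorem homologyMap_surjective_iff (hij : j + 1 = i) (hjk : k + 1 = j) (φ : K ⟶ L) :
    Surjective (HomologicalComplex.homologyMap φ j).hom ↔
      ∀ z : L.X j, L.d j k z = 0 →
        ∃ y : K.X j, K.d j k y = 0 ∧ z - φ.f j y ∈ LinearMap.range (L.d i j).hom := by
  constructor
  · intro h z hz
    obtain ⟨a, ha⟩ := h (cls L j k hjk ⟨z, hz⟩)
    obtain ⟨⟨y, hy⟩, rfl⟩ := cls_surjective K j k hjk a
    refine ⟨y, hy, ?_⟩
    have := (cls_map j k hjk φ ⟨y, hy⟩).symm.trans ha
    rw [← sub_eq_zero, ← map_sub, cls_eq_zero_iff L i j k hij hjk] at this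
    rw [← neg_mem_iff, neg_sub]
    exact this
  · intro h b
    obtain ⟨⟨z, hz⟩, rfl⟩ := cls_surjective L j k hjk b
    obtain ⟨y, hy, hy'⟩ := h z hz
    refine ⟨cls K j k hjk ⟨y, hy⟩, (cls_map j k hjk φ ⟨y, hy⟩).trans ?_⟩
    rw [← sub_eq_zero, ← map_sub, cls_eq_zero_iff L i j k hij hjk]
    rw [← neg_mem_iff, AddSubgroupClass.coe_sub, neg_sub]
    exact hy'

variable (K) in
theorem isZero_homology_iff (hij : j + 1 = i) (hjk : k + 1 = j) :
    Limits.IsZero (K.homology j) ↔ LinearMap.ker (K.d j k).hom ≤ LinearMap.range (K.d i j).hom := by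
  rw [ModuleCat.isZero_iff_subsingleton]
  constructor
  · intro h y hy
    exact (cls_eq_zero_iff K i j k hij hjk ⟨y, hy⟩).mp (Subsingleton.elim _ _)
  · intro h
    refine ⟨fun a b => ?_⟩
    suffices ∀ c : K.homology j, c = 0 by rw [this a, this b]
    intro c
    obtain ⟨⟨y, hy⟩, rfl⟩ := cls_surjective K j k hjk c
    exact (cls_eq_zero_iff K i j k hij hjk _).mpr (h hy)

variable (K) in
/-- `ker / im ≅` homology. -/
noncomputable def homologyQuotEquiv (hij : j + 1 = i) (hjk : k + 1 = j) :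
    homologyQuot (K.d i j).hom (K.d j k).hom ≃ₗ[A] K.homology j :=
  (Submodule.quotEquivOfEq _ _ (Submodule.ext fun x => by
      rw [LinearMap.mem_ker, cls_eq_zero_iff K i j k hij hjk]; rfl)).trans
    (LinearMap.quotKerEquivOfSurjective (cls K j k hjk) (cls_surjective K j k hjk))

end Cls

section Tensor

variable (P : ChainComplex (ModuleCat.{u} A) ℤ)

theorem d_comp_d_hom (i j k : ℤ) : (P.d j k).hom ∘ₗ (P.d i j).hom = 0 :=
  congrArg ModuleCat.Hom.hom (P.d_comp_d i j k)

theorem tensorObj_d (M : ModuleCat.{u} A) (i j : ℤ) :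
    ((CohIII.tensorObj P M).d i j).hom = (P.d i j).hom.rTensor M := rfl

theorem tensorMap_f {M N : ModuleCat.{u} A} (φ : M ⟶ N) (j : ℤ) :
    ((CohIII.tensorMap P φ).f j).hom = φ.hom.lTensor (P.X j) := rfl

variable {P} (q p r : ℤ)

theorem TFun_map_injective_iff (hqp : p + 1 = q) (hpr : r + 1 = p) {M N : ModuleCat.{u} A} (φ : M ⟶ N) :
    Injective ((CohIII.TFun P p).map φ).hom ↔
      ∀ y : P.X p ⊗[A] M, (P.d p r).hom.rTensor M y = 0 →
        φ.hom.lTensor (P.X p) y ∈ LinearMap.range ((P.d q p).hom.rTensor N) →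
        y ∈ LinearMap.range ((P.d q p).hom.rTensor M) :=
  homologyMap_injective_iff (K := CohIII.tensorObj P M) (L := CohIII.tensorObj P N) q p r hqp hpr
    (CohIII.tensorMap P φ)

theorem TFun_map_surjective_iff (hqp : p + 1 = q) (hpr : r + 1 = p) {M N : ModuleCat.{u} A} (φ : M ⟶ N) :
    Surjective ((CohIII.TFun P p).map φ).hom ↔
      ∀ z : P.X p ⊗[A] N, (P.d p r).hom.rTensor N z = 0 →
        ∃ y : P.X p ⊗[A] M, (P.d p r).hom.rTensor M y = 0 ∧
          z - φ.hom.lTensor (P.X p) y ∈ LinearMap.range ((P.d q p).hom.rTensor N) :=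
  homologyMap_surjective_iff (K := CohIII.tensorObj P M) (L := CohIII.tensorObj P N) q p r hqp hpr
    (CohIII.tensorMap P φ)

theorem preservesMono_iff (hqp : p + 1 = q) (hpr : r + 1 = p) :
    (CohIII.TFun P p).PreservesMonomorphisms ↔ MonoAt (P.d q p).hom (P.d p r).hom := by
  constructor
  · intro h M N _ _ _ _ φ hφ
    have : Mono (ModuleCat.ofHom φ) := (ModuleCat.mono_iff_injective _).mpr hφ
    exact (TFun_map_injective_iff q p r hqp hpr (ModuleCat.ofHom φ)).mp
      ((ModuleCat.mono_iff_injective _).mp inferInstance)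
  · intro h
    refine ⟨fun {M N} φ hφ => (ModuleCat.mono_iff_injective _).mpr ?_⟩
    exact (TFun_map_injective_iff q p r hqp hpr φ).mpr
      (h φ.hom ((ModuleCat.mono_iff_injective φ).mp hφ))

theorem preservesEpi_iff (hqp : p + 1 = q) (hpr : r + 1 = p) :
    (CohIII.TFun P p).PreservesEpimorphisms ↔ EpiAt (P.d q p).hom (P.d p r).hom := by
  constructor
  · intro h M N _ _ _ _ φ hφ
    have : Epi (ModuleCat.ofHom φ) := (ModuleCat.epi_iff_surjective _).mpr hφ
    exact (TFun_map_surjective_iff q p r hqp hpr (ModuleCat.ofHom φ)).mp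
      ((ModuleCat.epi_iff_surjective _).mp inferInstance)
  · intro h
    refine ⟨fun {M N} φ hφ => (ModuleCat.epi_iff_surjective _).mpr ?_⟩
    exact (TFun_map_surjective_iff q p r hqp hpr φ).mpr
      (h φ.hom ((ModuleCat.epi_iff_surjective φ).mp hφ))

theorem isZero_T_iff (hqp : p + 1 = q) (hpr : r + 1 = p) (M : ModuleCat.{u} A) :
    Limits.IsZero ((CohIII.TFun P p).obj M) ↔
      LinearMap.ker ((P.d p r).hom.rTensor M) ≤ LinearMap.range ((P.d q p).hom.rTensor M) :=
  isZero_homology_iff (CohIII.tensorObj P M) q p r hqp hpr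

variable (hP : ∀ i, Module.Flat A (P.X i))
include hP

theorem preservesMono_iff_flat (hqp : p + 1 = q) :
    (CohIII.TFun P p).PreservesMonomorphisms ↔
      Module.Flat A (P.X p ⧸ LinearMap.range (P.d q p).hom) := by
  have := hP (p - 1)
  rw [preservesMono_iff q p (p - 1) hqp (by omega), monoAt_iff_flat (d_comp_d_hom P q p (p - 1))]

theorem preservesEpi_iff_flat (hpr : r + 1 = p) :
    (CohIII.TFun P p).PreservesEpimorphisms ↔
      Module.Flat A (P.X r ⧸ LinearMap.range (P.d p r).hom) := by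
  have := hP r
  rw [preservesEpi_iff (p + 1) p r rfl hpr, epiAt_iff_flat (d_comp_d_hom P (p + 1) p r)]

omit hP in
theorem surjAt_of_surjective [IsLocalRing A] (hqp : p + 1 = q) (hpr : r + 1 = p)
    (h : Surjective ((CohIII.TFun P p).map
      (ModuleCat.ofHom (Algebra.linearMap A (IsLocalRing.ResidueField A)))).hom) :
    SurjAt (P.d q p).hom (P.d p r).hom := by
  intro z hz
  obtain ⟨y, hy, hy'⟩ := (TFun_map_surjective_iff q p r hqp hpr _).mp h z hz
  obtain ⟨x, rfl⟩ := (TensorProduct.rid A (P.X p)).symm.surjective y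
  refine ⟨x, ?_, ?_⟩
  · have := congrArg (TensorProduct.rid A (P.X r)) hy
    simpa using this
  · simpa using hy'

end Tensor

end Groth.Agent.FlatCxLib
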