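import Groth.Agent.FlatCxLib.Homology
import Mathlib.RingTheory.Spectrum.Prime.FreeLocus
import Mathlib.Topology.Semicontinuity.Basic
import Mathlib.LinearAlgebra.FiniteDimensional.Lemmas

/-!
# The fibre dimensions `CohIII.dRank`
-/

universe u

namespace Groth.Agent.FlatCxLib

open TensorProduct Function CategoryTheory

section Field

variable {K : Type u} [Field K] {Vq Vp Vr : Type u} [AddCommGroup Vq] [AddCommGroup Vp] [AddCommGroup Vr]
  [Module K Vq] [Module K Vp] [Module K Vr] [Module.Finite K Vp] [Module.Finite K Vr]

theorem finrank_homologyQuot_add (f : Vq →ₗ[K] Vp) (g : Vp →ₗ[K] Vr) (hfg : g ∘ₗ f = 0) :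
    Module.finrank K (homologyQuot f g) + Module.finrank K Vr =
      Module.finrank K (Vp ⧸ LinearMap.range f) + Module.finrank K (Vr ⧸ LinearMap.range g) := by
  have h1 := Submodule.finrank_quotient_add_finrank (LinearMap.range g)
  let q := (LinearMap.range f).liftQ g.rangeRestrict (by
    rw [LinearMap.ker_rangeRestrict]; exact LinearMap.range_le_ker_iff.mpr hfg)
  have hq : LinearMap.range q = ⊤ := by
    rw [Submodule.range_liftQ, LinearMap.range_eq_top]; exact g.surjective_rangeRestrict
  have h2 := LinearMap.finrank_range_add_finrank_ker q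
  rw [hq, finrank_top, LinearMap.exact_iff.mp (exact_homologyToCoker hfg),
    LinearMap.finrank_range_of_inj (homologyToCoker_injective f)] at h2
  omega

end Field

section Rank

variable {A : Type u} [CommRing A]

/-- The fibre dimension of a module. -/
noncomputable def fibreRank (M : Type u) [AddCommGroup M] [Module A M] (x : PrimeSpectrum A) : ℕ :=
  Module.finrank x.asIdeal.ResidueField (x.asIdeal.ResidueField ⊗[A] M)

theorem finrank_coker_baseChange {M N : Type u} [AddCommGroup M] [AddCommGroup N] [Module A M]
    [Module A N] (f : M →ₗ[A] N) (K : Type u) [CommRing K] [Algebra A K] :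
    Module.finrank K ((K ⊗[A] N) ⧸ LinearMap.range (f.baseChange K)) =
      Module.finrank K (K ⊗[A] (N ⧸ LinearMap.range f)) := by
  let π := (LinearMap.range f).mkQ.baseChange K
  have hex : Exact (f.baseChange K) π :=
    lTensor_exact K (LinearMap.exact_map_mkQ_range f) (Submodule.mkQ_surjective _)
  have hs : Surjective π := LinearMap.lTensor_surjective K (Submodule.mkQ_surjective _)
  exact ((Submodule.quotEquivOfEq _ _ (LinearMap.exact_iff.mp hex).symm).trans
    (π.quotKerEquivOfSurjective hs)).finrank_eq

theorem upperSemicontinuous_fibreRank (M : Type u) [AddCommGroup M] [Module A M] [Module.Finite A M] :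
    UpperSemicontinuous (fibreRank (A := A) M) := by
  intro x n hn
  have : Nontrivial A := x.nontrivial
  let K := x.asIdeal.ResidueField
  have hsup : Submodule.span K (Set.range (TensorProduct.mk A K M 1)) = ⊤ := by
    rw [eq_top_iff]
    intro z _
    induction z with
    | zero => exact zero_mem _
    | add a b ha hb => exact add_mem (ha trivial) (hb trivial)
    | tmul c m =>
      rw [show c ⊗ₜ[A] m = c • (1 ⊗ₜ[A] m) by rw [smul_tmul', smul_eq_mul, mul_one]]
      exact Submodule.smul_mem _ _ (Submodule.subset_span ⟨m, rfl⟩)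
  obtain ⟨b, hb, hspan, hli⟩ := exists_linearIndependent K (Set.range (TensorProduct.mk A K M 1))
  rw [hsup] at hspan
  have hfin : b.Finite := hli.setFinite
  let _ : Fintype b := hfin.fintype
  have hcard : Fintype.card b = fibreRank M x := by
    rw [fibreRank, ← Module.finrank_eq_card_basis (Module.Basis.mk hli (by
      rw [Subtype.range_coe_subtype, Set.setOf_mem_eq, hspan]))]
  choose v hv using fun z : b => hb z.2
  let N := Submodule.span A (Set.range v)
  have hx : x ∉ Module.support A (M ⧸ N) := by
    rw [Module.mem_support_iff_nontrivial_residueField_tensorProduct, not_nontrivial_iff_subsingleton]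
    have hs : Surjective (N.mkQ.baseChange K) := LinearMap.lTensor_surjective K N.mkQ_surjective
    refine ⟨fun a a' => ?_⟩
    suffices ∀ a : K ⊗[A] (M ⧸ N), a = 0 by rw [this a, this a']
    clear a a'
    intro a
    obtain ⟨a, rfl⟩ := hs a
    have : Submodule.span K b ≤ LinearMap.ker (N.mkQ.baseChange K) := by
      rw [Submodule.span_le]
      intro z hz
      rw [SetLike.mem_coe, LinearMap.mem_ker]
      suffices N.mkQ.baseChange K (TensorProduct.mk A K M 1 (v ⟨z, hz⟩)) = 0 by rwa [hv] at this
      rw [TensorProduct.mk_apply,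
        LinearMap.baseChange_tmul, show N.mkQ (v ⟨z, hz⟩) = 0 from
          (Submodule.Quotient.mk_eq_zero N).mpr (Submodule.subset_span ⟨_, rfl⟩), tmul_zero]
    exact this (hspan ▸ trivial)
  have hopen : IsOpen (Module.support A (M ⧸ N))ᶜ := by
    rw [Module.support_eq_zeroLocus, isOpen_compl_iff]
    exact PrimeSpectrum.isClosed_zeroLocus _
  refine Filter.mem_of_superset (hopen.mem_nhds hx) fun y hy => ?_
  refine lt_of_le_of_lt ?_ hn
  let K' := y.asIdeal.ResidueField
  have hy' : Subsingleton (K' ⊗[A] (M ⧸ N)) := by
    rw [← not_nontrivial_iff_subsingleton, ← Module.mem_support_iff_nontrivial_residueField_tensorProduct]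
    exact hy
  let φ : (b → A) →ₗ[A] M := Fintype.linearCombination A v
  have hφ : LinearMap.range φ = N := Fintype.range_linearCombination A v
  have hs : Surjective (φ.baseChange K') := fun z => by
    have h0 : N.mkQ.lTensor K' z = 0 := Subsingleton.elim _ _
    have hex : Exact φ N.mkQ := by rw [LinearMap.exact_iff, Submodule.ker_mkQ, hφ]
    exact (lTensor_exact K' hex N.mkQ_surjective z).mp h0
  rw [← hcard]
  refine (LinearMap.finrank_le_finrank_of_surjective hs).trans ?_
  rw [Module.finrank_baseChange, Module.finrank_fintype_fun_eq_card]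

theorem fibreRank_eq_rankAtStalk (M : Type u) [AddCommGroup M] [Module A M] [Module.Flat A M]
    [Module.Finite A M] (x : PrimeSpectrum A) : fibreRank M x = Module.rankAtStalk M x :=
  (Module.rankAtStalk_eq x).symm

variable {ι : Type} {c : ComplexShape ι}

theorem finrank_bc_homology_aux {B : Type u} [CommRing B] (φ : A →+* B)
    (P : ChainComplex (ModuleCat.{u} A) ℤ) (q p r : ℤ) (hqp : p + 1 = q) (hpr : r + 1 = p) :
    letI := φ.toAlgebra
    Module.finrank B ((CohIII.bcCx φ P).homology p) =
      Module.finrank B (homologyQuot ((P.d q p).hom.baseChange B) ((P.d p r).hom.baseChange B)) :=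
  (homologyQuotEquiv (CohIII.bcCx φ P) q p r hqp hpr).symm.finrank_eq

theorem finrank_bc_homology {B : Type u} [CommRing B] [inst : Algebra A B]
    (P : ChainComplex (ModuleCat.{u} A) ℤ) (q p r : ℤ) (hqp : p + 1 = q) (hpr : r + 1 = p) :
    Module.finrank B ((CohIII.bcCx (algebraMap A B) P).homology p) =
      Module.finrank B (homologyQuot ((P.d q p).hom.baseChange B) ((P.d p r).hom.baseChange B)) := by
  have h : inst = (algebraMap A B).toAlgebra := Algebra.algebra_ext _ _ fun _ => rfl
  have aux : ∀ (φ : A →+* B) (i : Algebra A B), i = φ.toAlgebra →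
      letI := i
      Module.finrank B ((CohIII.bcCx φ P).homology p) =
        Module.finrank B (homologyQuot ((P.d q p).hom.baseChange B) ((P.d p r).hom.baseChange B)) := by
    rintro φ _ rfl
    exact finrank_bc_homology_aux φ P q p r hqp hpr
  exact aux _ inst h

theorem baseChange_comp_zero {B : Type u} [CommRing B] [Algebra A B]
    (P : ChainComplex (ModuleCat.{u} A) ℤ) (q p r : ℤ) :
    (P.d p r).hom.baseChange B ∘ₗ (P.d q p).hom.baseChange B = 0 := by
  rw [← LinearMap.baseChange_comp, d_comp_d_hom, LinearMap.baseChange_zero]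

theorem dRank_add (P : ChainComplex (ModuleCat.{u} A) ℤ)
    (hP : ∀ i, Module.Finite A (P.X i) ∧ Module.Flat A (P.X i))
    (q p r : ℤ) (hqp : p + 1 = q) (hpr : r + 1 = p) (x : PrimeSpectrum A) :
    CohIII.dRank P p x + Module.rankAtStalk (P.X r) x =
      fibreRank (P.X p ⧸ LinearMap.range (P.d q p).hom) x +
        fibreRank (P.X r ⧸ LinearMap.range (P.d p r).hom) x := by
  have := (hP p).1
  have := (hP r).1
  have := (hP r).2
  rw [CohIII.dRank, finrank_bc_homology P q p r hqp hpr, Module.rankAtStalk_eq, fibreRank, fibreRank,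
    ← finrank_coker_baseChange, ← finrank_coker_baseChange]
  exact finrank_homologyQuot_add _ _ (baseChange_comp_zero P q p r)

theorem upperSemicontinuous_dRank [IsNoetherianRing A] (P : ChainComplex (ModuleCat.{u} A) ℤ)
    (hP : ∀ i, Module.Finite A (P.X i) ∧ Module.Flat A (P.X i)) (p : ℤ) :
    UpperSemicontinuous (CohIII.dRank P p) := by
  intro x n hn
  have := (hP p).1
  have := (hP (p - 1)).1
  have := (hP (p - 1)).2
  have : Module.FinitePresentation A (P.X (p - 1)) := Module.finitePresentation_of_finite A _
  have h1 := upperSemicontinuous_fibreRank (A := A) (P.X p ⧸ LinearMap.range (P.d (p + 1) p).hom) x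
    _ (Nat.lt_succ_self _)
  have h2 := upperSemicontinuous_fibreRank (A := A) (P.X (p - 1) ⧸ LinearMap.range (P.d p (p - 1)).hom) x
    _ (Nat.lt_succ_self _)
  have h3 := (Module.isLocallyConstant_rankAtStalk (R := A) (M := P.X (p - 1))).eventually_eq x
  filter_upwards [h1, h2, h3] with y hy1 hy2 hy3
  have ex := dRank_add P hP (p + 1) p (p - 1) rfl (by omega) x
  have ey := dRank_add P hP (p + 1) p (p - 1) rfl (by omega) y
  omega

end Rank

end Groth.Agent.FlatCxLib
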